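import Mathlib

/-!
# Presentations with bounded numbers of generators and relations

`PB R M p q`: the module is a quotient of `R^p` by a submodule with `q` generators. Stable under
base change, and local with explicit bounds; used for products of families of modules.
-/

set_option autoImplicit false

universe u

open TensorProduct

namespace Groth.Agent.ProdFPLib

section
variable {A : Type*} [CommRing A] {M M' : Type*} [AddCommGroup M] [Module A M] [AddCommGroup M'] [Module A M']

/-- A presentation with `p` generators and `q` relations. -/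
def PB (A M : Type*) [CommRing A] [AddCommGroup M] [Module A M] (p q : ℕ) : Prop :=
  ∃ L : (Fin p → A) →ₗ[A] M, Function.Surjective L ∧
    ∃ w : Fin q → (Fin p → A), LinearMap.ker L = Submodule.span A (Set.range w)

theorem PB.equiv {p q : ℕ} (h : PB A M p q) (e : M ≃ₗ[A] M') : PB A M' p q := by
  obtain ⟨L, hL, w, hw⟩ := h
  exact ⟨e.toLinearMap ∘ₗ L, e.surjective.comp hL, w, by rw [LinearMap.ker_comp, LinearEquiv.ker, Submodule.comap_bot, hw]⟩

theorem exists_pb [Module.FinitePresentation A M] : ∃ p q, PB A M p q := by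
  obtain ⟨n, K, e, hK⟩ := Module.FinitePresentation.exists_fin A M
  obtain ⟨q, w, hw⟩ := Submodule.fg_iff_exists_fin_generating_family.mp hK
  refine ⟨n, q, e.symm.toLinearMap ∘ₗ K.mkQ, e.symm.surjective.comp K.mkQ_surjective, w, ?_⟩
  rw [LinearMap.ker_comp, LinearEquiv.ker, Submodule.comap_bot, Submodule.ker_mkQ, hw]

theorem PB.baseChange (S : Type*) [CommRing S] [Algebra A S] {p q : ℕ} (h : PB A M p q) :
    PB S (S ⊗[A] M) p q := by
  classical
  obtain ⟨L, hL, w, hw⟩ := h
  let φ : (Fin p → A) →ₗ[A] (Fin p → S) := LinearMap.compLeft (Algebra.linearMap A S) (Fin p)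
  let L' : (Fin p → S) →ₗ[S] S ⊗[A] M :=
    Fintype.linearCombination S fun j => (1 : S) ⊗ₜ[A] L (Pi.single j 1)
  have hφ : ∀ x, L' (φ x) = (1 : S) ⊗ₜ L x := by
    intro x
    conv_rhs => rw [← Finset.univ_sum_single x, map_sum, TensorProduct.tmul_sum]
    rw [Fintype.linearCombination_apply]
    refine Finset.sum_congr rfl fun j _ => ?_
    rw [show Pi.single j (x j) = x j • Pi.single j (1 : A) by rw [← Pi.single_smul, smul_eq_mul, mul_one],
      map_smul, TensorProduct.tmul_smul]
    simp [φ, algebraMap_smul]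
  let K' : Submodule S (Fin p → S) := Submodule.span S (Set.range fun j => φ (w j))
  let g : ((Fin p → A) ⧸ LinearMap.ker L) →ₗ[A] (Fin p → S) ⧸ K' :=
    (LinearMap.ker L).liftQ ((K'.mkQ.restrictScalars A) ∘ₗ φ) (by
      rw [hw, Submodule.span_le]
      rintro _ ⟨j, rfl⟩
      exact (Submodule.Quotient.mk_eq_zero K').mpr (Submodule.subset_span ⟨j, rfl⟩))
  let inv : S ⊗[A] M →ₗ[S] (Fin p → S) ⧸ K' :=
    LinearMap.liftBaseChange S (g ∘ₗ (L.quotKerEquivOfSurjective hL).symm.toLinearMap)
  have hinv : inv ∘ₗ L' = K'.mkQ := by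
    refine (Pi.basisFun S (Fin p)).ext fun j => ?_
    have h1 : φ (Pi.single j 1) = Pi.single j 1 := funext fun i => by
      rcases eq_or_ne i j with rfl | h <;> simp [φ, *]
    rw [Pi.basisFun_apply, LinearMap.comp_apply, ← h1, hφ]
    simp only [inv, LinearMap.liftBaseChange_tmul, one_smul, LinearMap.comp_apply, LinearEquiv.coe_coe,
      LinearMap.quotKerEquivOfSurjective_symm_apply]
    rfl
  refine ⟨L', ?_, fun j => φ (w j), le_antisymm (fun x hx => ?_) (Submodule.span_le.mpr ?_)⟩
  · intro z
    induction z using TensorProduct.induction_on with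
    | zero => exact ⟨0, map_zero _⟩
    | tmul s m =>
      obtain ⟨x, rfl⟩ := hL m
      exact ⟨s • φ x, by rw [map_smul, hφ, TensorProduct.smul_tmul', smul_eq_mul, mul_one]⟩
    | add a b ha hb =>
      obtain ⟨x, rfl⟩ := ha; obtain ⟨y, rfl⟩ := hb
      exact ⟨x + y, map_add _ _ _⟩
  · have := LinearMap.congr_fun hinv x
    rw [LinearMap.comp_apply, LinearMap.mem_ker.mp hx, map_zero] at this
    exact (Submodule.Quotient.mk_eq_zero K').mp this.symm
  · rintro _ ⟨j, rfl⟩
    rw [SetLike.mem_coe, LinearMap.mem_ker, hφ]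
    have : L (w j) = 0 := LinearMap.mem_ker.mp (hw ▸ Submodule.subset_span ⟨j, rfl⟩)
    rw [this, TensorProduct.tmul_zero]

/-- Change along a surjective algebra map. -/
theorem PB.of_surjective (S : Type*) [CommRing S] [Algebra A S] [Module S M] [IsScalarTower A S M]
    (hs : Function.Surjective (algebraMap A S)) {p q : ℕ} (h : PB A M p q) : PB S M p q := by
  let φ : S ⊗[A] M →ₗ[S] M := LinearMap.liftBaseChange S LinearMap.id
  have h1 : ∀ z, (1 : S) ⊗ₜ[A] φ z = z := fun z => by
    induction z with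
    | zero => rw [map_zero, TensorProduct.tmul_zero]
    | add x y hx hy => rw [map_add, TensorProduct.tmul_add, hx, hy]
    | tmul a n =>
      obtain ⟨r, rfl⟩ := hs a
      simp [φ, TensorProduct.tmul_smul, TensorProduct.smul_tmul', Algebra.smul_def]
  exact (h.baseChange S).equiv (LinearEquiv.ofBijective φ
    ⟨fun x y h => by rw [← h1 x, ← h1 y, h], fun n => ⟨(1 : S) ⊗ₜ[A] n, by simp [φ]⟩⟩)

/-- Clearing denominators. -/
theorem exists_smul_mem {S : Submonoid A} (A' : Type*) [CommRing A'] [Algebra A A'] [IsLocalization S A']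
    [Module A' M'] [IsScalarTower A A' M'] (f : M →ₗ[A] M') [IsLocalizedModule S f] (N : Submodule A M)
    {x : M} (hx : f x ∈ Submodule.span A' (f '' (N : Set M))) : ∃ s ∈ S, s • x ∈ N := by
  have key : ∀ y ∈ Submodule.span A' (f '' (N : Set M)), ∃ s ∈ S, ∃ n ∈ N, s • y = f n := by
    intro y hy
    induction hy using Submodule.span_induction with
    | mem y hy => obtain ⟨n, hn, rfl⟩ := hy; exact ⟨1, S.one_mem, n, hn, one_smul _ _⟩
    | zero => exact ⟨1, S.one_mem, 0, zero_mem _, by simp⟩
    | add y z _ _ hy hz =>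
      obtain ⟨s, hs, n, hn, e⟩ := hy
      obtain ⟨t, ht, m, hm, e'⟩ := hz
      refine ⟨t * s, S.mul_mem ht hs, t • n + s • m, add_mem (N.smul_mem _ hn) (N.smul_mem _ hm), ?_⟩
      rw [smul_add, map_add, map_smul, map_smul, ← e, ← e', smul_smul, smul_smul, mul_comm s t]
    | smul c y _ hy =>
      obtain ⟨s, hs, n, hn, e⟩ := hy
      obtain ⟨⟨r, t⟩, hc⟩ := IsLocalization.surj S c
      refine ⟨s * t, S.mul_mem hs t.2, r • n, N.smul_mem _ hn, ?_⟩
      rw [map_smul, ← e, ← algebraMap_smul A' (s * (t : A)) (c • y), ← algebraMap_smul A' r (s • y),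
        ← algebraMap_smul A' s y, smul_smul, smul_smul, map_mul, ← hc]
      congr 1
      ring
  obtain ⟨s, hs, n, hn, e⟩ := key _ hx
  rw [← map_smul] at e
  obtain ⟨c, hc⟩ := IsLocalizedModule.exists_of_eq (S := S) e
  refine ⟨c * s, S.mul_mem c.2 hs, ?_⟩
  rw [mul_smul]
  simp only [Submonoid.smul_def] at hc
  rw [hc]
  exact N.smul_mem _ hn

theorem mem_of_forall_pow {c : ℕ} (e : Fin c → A) (he : ∑ a, e a = 1) (N : Submodule A M) {x : M}
    (h : ∀ a, ∃ s ∈ Submonoid.powers (e a), s • x ∈ N) : x ∈ N := by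
  let I : Ideal A := N.comap (LinearMap.toSpanSingleton A M x)
  have hI : ∀ a, e a ∈ I.radical := fun a => by
    obtain ⟨_, ⟨k, rfl⟩, hk⟩ := h a
    exact ⟨k, hk⟩
  have : I.radical = ⊤ := (Ideal.eq_top_iff_one _).mpr (he ▸ sum_mem fun a _ => hI a)
  rw [Ideal.radical_eq_top] at this
  have h1 : (1 : A) ∈ I := this ▸ Submodule.mem_top
  simpa [I] using h1

/-- Two presentations: relations of one from relations of the other. -/
theorem ker_gen {p p' q' : ℕ} (L : (Fin p → A) →ₗ[A] M) (hL : Function.Surjective L) (h : PB A M p' q') :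
    ∃ w : Fin p ⊕ Fin q' → (Fin p → A), LinearMap.ker L = Submodule.span A (Set.range w) := by
  classical
  obtain ⟨L', hL', w', hw'⟩ := h
  obtain ⟨α, hα⟩ := Module.projective_lifting_property L L' hL
  obtain ⟨β, hβ⟩ := Module.projective_lifting_property L' L hL'
  have hα' : ∀ x, L (α x) = L' x := fun x => LinearMap.congr_fun hα x
  have hβ' : ∀ x, L' (β x) = L x := fun x => LinearMap.congr_fun hβ x
  let δ : (Fin p → A) →ₗ[A] (Fin p → A) := LinearMap.id - α ∘ₗ β
  refine ⟨Sum.elim (fun j => δ (Pi.basisFun A (Fin p) j)) (fun j => α (w' j)),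
    le_antisymm (fun x hx => ?_) (Submodule.span_le.mpr ?_)⟩
  · have h1 : x = δ x + α (β x) := by simp [δ]
    rw [h1, Set.Sum.elim_range, Submodule.span_union]
    refine Submodule.add_mem_sup ?_ ?_
    · have h2 : δ x ∈ Submodule.map δ ⊤ := Submodule.mem_map_of_mem trivial
      rw [← (Pi.basisFun A (Fin p)).span_eq, Submodule.map_span, ← Set.range_comp] at h2
      exact h2
    · have h3 : β x ∈ Submodule.span A (Set.range w') := by
        rw [← hw', LinearMap.mem_ker, hβ']; exact hx
      have h4 := Submodule.mem_map_of_mem (f := α) h3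
      rw [Submodule.map_span, ← Set.range_comp] at h4
      exact h4
  · rintro _ ⟨j | j, rfl⟩
    · simp [δ, hα', hβ']
    · have : w' j ∈ LinearMap.ker L' := hw' ▸ Submodule.subset_span ⟨j, rfl⟩
      simpa [hα'] using this

end

section
variable {A : Type u} [CommRing A] {M : Type u} [AddCommGroup M] [Module A M]

theorem isLocalizedModule_compLeft {S : Submonoid A} (A' : Type u) [CommRing A'] [Algebra A A'] [IsLocalization S A']
    (P : ℕ) : IsLocalizedModule S ((Algebra.linearMap A A').compLeft (Fin P)) := by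
  haveI : IsLocalizedModule S (Algebra.linearMap A A') := inferInstance
  have : (Algebra.linearMap A A').compLeft (Fin P) = LinearMap.pi fun i => (Algebra.linearMap A A').comp (LinearMap.proj i) := by
    ext x i; rfl
  rw [this]
  infer_instance

/-- Presentations are local, with explicit bounds. -/
theorem PB.of_local {c : ℕ} (e : Fin c → A) (he : ∑ a, e a = 1) (p q : Fin c → ℕ)
    (h : ∀ a, PB (Localization.Away (e a)) (Localization.Away (e a) ⊗[A] M) (p a) (q a)) :
    PB A M (∑ a, p a) (∑ a, ((∑ b, p b) + q a)) := by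
  classical
  let Al : Fin c → Type u := fun a => Localization.Away (e a)
  let f : ∀ a, M →ₗ[A] Al a ⊗[A] M := fun a => TensorProduct.mk A (Al a) M 1
  haveI hf : ∀ a, IsLocalizedModule (Submonoid.powers (e a)) (f a) := fun a =>
    (isLocalizedModule_iff_isBaseChange (Submonoid.powers (e a)) (Al a) (f a)).mpr (TensorProduct.isBaseChange A M (Al a))
  choose L hL w hw using h
  choose v s hv using fun (a : Fin c) (j : Fin (p a)) =>
    (show ∃ (m : M) (s : Submonoid.powers (e a)), f a m = s • L a (Pi.single j 1) from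
      let ⟨⟨m, s⟩, hms⟩ := IsLocalizedModule.surj (Submonoid.powers (e a)) (f a) (L a (Pi.single j 1))
      ⟨m, s, hms.symm⟩)
  set P := ∑ a, p a
  let V : Fin P → M := fun z => v (finSigmaFinEquiv.symm z).1 (finSigmaFinEquiv.symm z).2
  let LL : (Fin P → A) →ₗ[A] M := Fintype.linearCombination A V
  have hgen : Function.Surjective LL := by
    rw [← LinearMap.range_eq_top, Fintype.range_linearCombination, eq_top_iff]
    intro x _
    refine mem_of_forall_pow e he _ fun a => exists_smul_mem (Al a) (f a) _ ?_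
    obtain ⟨y, hy⟩ := hL a (f a x)
    rw [← hy, ← Finset.univ_sum_single y, map_sum]
    refine sum_mem fun j _ => ?_
    rw [show Pi.single j (y j) = y j • Pi.single j (1 : Al a) by rw [← Pi.single_smul, smul_eq_mul, mul_one], map_smul]
    refine Submodule.smul_mem _ _ ?_
    obtain ⟨r, hr⟩ := (IsLocalization.map_units (Al a) (s a j)).exists_left_inv
    have hgj : L a (Pi.single j 1) = r • f a (v a j) := by
      rw [hv, Submonoid.smul_def, ← algebraMap_smul (Al a) (s a j : A), smul_smul, hr, one_smul]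
    rw [hgj]
    exact Submodule.smul_mem _ _ (Submodule.subset_span ⟨v a j, Submodule.subset_span ⟨finSigmaFinEquiv ⟨a, j⟩,
      congrArg (fun z : Σ a, Fin (p a) => v z.1 z.2) (finSigmaFinEquiv.symm_apply_apply ⟨a, j⟩)⟩, rfl⟩)
  let φ : ∀ a, (Fin P → A) →ₗ[A] (Fin P → Al a) := fun a => (Algebra.linearMap A (Al a)).compLeft (Fin P)
  haveI hφ : ∀ a, IsLocalizedModule (Submonoid.powers (e a)) (φ a) := fun a => isLocalizedModule_compLeft (Al a) P
  let L1 : ∀ a, (Fin P → Al a) →ₗ[Al a] Al a ⊗[A] M := fun a => Fintype.linearCombination (Al a) fun z => f a (V z)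
  have hcomp : ∀ a x, L1 a (φ a x) = f a (LL x) := by
    intro a x
    simp [L1, LL, φ, Fintype.linearCombination_apply, map_sum, map_smul, algebraMap_smul]
  have hL1 : ∀ a, Function.Surjective (L1 a) := by
    intro a y
    obtain ⟨⟨m, t⟩, hmt⟩ := IsLocalizedModule.surj (Submonoid.powers (e a)) (f a) y
    obtain ⟨x, rfl⟩ := hgen m
    obtain ⟨r, hr⟩ := (IsLocalization.map_units (Al a) t).exists_left_inv
    refine ⟨r • φ a x, ?_⟩
    rw [map_smul, hcomp, ← hmt, Submonoid.smul_def, ← algebraMap_smul (Al a) (t : A), smul_smul, hr, one_smul]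
  choose w1 hw1 using fun a => ker_gen (L1 a) (hL1 a) ⟨L a, hL a, w a, hw a⟩
  have hlift : ∀ (a : Fin c) (j : Fin P ⊕ Fin (q a)), ∃ x : Fin P → A, LL x = 0 ∧
      ∃ t : Submonoid.powers (e a), φ a x = t • w1 a j := by
    intro a j
    obtain ⟨⟨x, t⟩, hxt⟩ := IsLocalizedModule.surj (Submonoid.powers (e a)) (φ a) (w1 a j)
    have h0 : f a (LL x) = f a 0 := by
      have hw0 : L1 a (w1 a j) = 0 := LinearMap.mem_ker.mp (hw1 a ▸ Submodule.subset_span ⟨j, rfl⟩)
      rw [← hcomp, ← hxt, map_zero, Submonoid.smul_def, LinearMap.map_smul_of_tower, hw0, smul_zero]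
    obtain ⟨t', ht'⟩ := IsLocalizedModule.exists_of_eq (S := Submonoid.powers (e a)) h0
    rw [smul_zero, Submonoid.smul_def] at ht'
    refine ⟨(t' : A) • x, by rw [map_smul]; exact ht', t' * t, ?_⟩
    rw [map_smul, ← hxt, mul_smul]; rfl
  choose x hx t ht using hlift
  let W : Fin (∑ a, (P + q a)) → (Fin P → A) := fun z =>
    x (finSigmaFinEquiv.symm z).1 (finSumFinEquiv.symm (finSigmaFinEquiv.symm z).2)
  refine ⟨LL, hgen, W, le_antisymm (fun y hy => ?_) (Submodule.span_le.mpr ?_)⟩
  · refine mem_of_forall_pow e he _ fun a => exists_smul_mem (Al a) (φ a) _ ?_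
    have h1 : φ a y ∈ LinearMap.ker (L1 a) := by
      rw [LinearMap.mem_ker, hcomp, LinearMap.mem_ker.mp hy, map_zero]
    rw [hw1 a] at h1
    refine Submodule.span_le.mpr ?_ h1
    rintro _ ⟨j, rfl⟩
    obtain ⟨r, hr⟩ := (IsLocalization.map_units (Al a) (t a j)).exists_left_inv
    have : w1 a j = r • φ a (x a j) := by
      rw [ht, Submonoid.smul_def, ← algebraMap_smul (Al a) (t a j : A), smul_smul, hr, one_smul]
    rw [this]
    exact Submodule.smul_mem _ _ (Submodule.subset_span ⟨x a j, Submodule.subset_span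
      ⟨finSigmaFinEquiv ⟨a, finSumFinEquiv j⟩,
        (congrArg (fun z : Σ a, Fin (P + q a) => x z.1 (finSumFinEquiv.symm z.2))
          (finSigmaFinEquiv.symm_apply_apply ⟨a, finSumFinEquiv j⟩)).trans (by simp)⟩, rfl⟩)
  · rintro _ ⟨z, rfl⟩
    exact hx _ _

end

/-- A family with uniformly bounded presentations has finitely presented product. -/
theorem finitePresentation_pi.{v, w} {ι : Type u} {A : ι → Type v} [∀ i, CommRing (A i)] {M : ι → Type w}
    [∀ i, AddCommGroup (M i)] [∀ i, Module (A i) (M i)] (p q : ℕ) (h : ∀ i, PB (A i) (M i) p q) :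
    Module.FinitePresentation (∀ i, A i) (∀ i, M i) := by
  classical
  choose L hL w hw using h
  let LL : (Fin p → ∀ i, A i) →ₗ[∀ i, A i] ∀ i, M i :=
    { toFun := fun x i => L i fun j => x j i
      map_add' := fun x y => funext fun i => (L i).map_add (fun j => x j i) (fun j => y j i)
      map_smul' := fun c x => funext fun i => (L i).map_smul (c i) (fun j => x j i) }
  refine Module.finitePresentation_of_surjective LL ?_ ?_
  · intro m
    choose y hy using fun i => hL i (m i)
    exact ⟨fun j i => y i j, funext fun i => hy i⟩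
  · have hker : LinearMap.ker LL = Submodule.span (∀ i, A i) (Set.range fun (r : Fin q) (j : Fin p) (i : ι) => w i r j) := by
      refine le_antisymm (fun x hx => ?_) (Submodule.span_le.mpr ?_)
      · have h1 : ∀ i, (fun j => x j i) ∈ Submodule.span (A i) (Set.range (w i)) := fun i =>
          hw i ▸ LinearMap.mem_ker.mpr (congrFun (LinearMap.mem_ker.mp hx) i)
        choose c hc using fun i => (Submodule.mem_span_range_iff_exists_fun (A i)).mp (h1 i)
        refine (Submodule.mem_span_range_iff_exists_fun _).mpr ⟨fun r i => c i r, ?_⟩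
        funext j i
        simpa [Finset.sum_apply] using congrFun (hc i) j
      · rintro _ ⟨r, rfl⟩
        refine LinearMap.mem_ker.mpr (funext fun i => ?_)
        have : w i r ∈ LinearMap.ker (L i) := hw i ▸ Submodule.subset_span ⟨r, rfl⟩
        exact this
    rw [hker]
    exact Submodule.fg_span (Set.finite_range _)

end Groth.Agent.ProdFPLib
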